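import Cfsg.Agent.H0.EO73C.K0
import Cfsg.Agent.H0.EO73C.K1
import Cfsg.Agent.H0.EO73C.K2
import Cfsg.Agent.H0.EO73C.K3
import Cfsg.Agent.H0.EO73C.K4
import Cfsg.Agent.H0.EO73C.K5
set_option maxRecDepth 100000
set_option Elab.async false
set_option linter.unusedSectionVars false
namespace H0.EO73C
open H0 BN 
theorem defs_ok : DefsOK R.p defs 17 := defsOK_of_chk c61
universe u
variable {G : Type u} [Group G] [Finite G] (m0 : Model G) (h0 : m0.R = H0.MO73.R)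
noncomputable def m : Model G := m0.ext (lg := nat_lit 9) (N := nat_lit 512) (l := H0.MO73.nl) h0 nl nl_ok 17 rfl defs defs_ok (by decide +kernel)
theorem mR : (m m0 h0).R = R := rfl
variable (hb : m0.pst [256, 2, 306, 225, 1, 0] = ⊥) (hc : Nat.card G = 4585351680)
include h0 hb hc
theorem base : (m m0 h0).pst [256, 2, 306, 225, 1, 0] = ⊥ := hb
omit hb hc in
theorem geq {x : ℕ} (h : x < 17) : (m m0 h0).g x = m0.g x := m0.ext_g h0 _ _ _ _ _ _ _ h
omit hb hc in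
theorem sch_ok : (m m0 h0).ChainOK sch [] := ((m m0 h0).chain_cons [0, 1, 2, 3, 4, 6, 2, 5, 0, 1] (Model.via _ (mR m0 h0) (fun R => Model.fixP R [] [[17], [18], [19], [20], [21], [23], [25]]) c4) (Model.via _ (mR m0 h0) (fun R => Model.growP R [[17], [18], [19], [20], [21], [23], [25]] [0, 1, 2, 3, 4, 6, 2, 5, 0, 1] 0 243) c5) ((m m0 h0).chain_cons [0, 1, 2, 0, 1, 2] (Model.via _ (mR m0 h0) (fun R => Model.fixP R [0] [[18, 21, 21, 23], [20, 24], [22, 25, 25]]) c2) (Model.via _ (mR m0 h0) (fun R => Model.growP R [[18, 21, 21, 23], [20, 24], [22, 25, 25]] [0, 1, 2, 0, 1, 2] 1 27) c3) ((m m0 h0).chain_cons [0, 0] (Model.via _ (mR m0 h0) (fun R => Model.fixP R [1, 0] [[17, 21, 23, 23, 24, 25]]) c0) (Model.via _ (mR m0 h0) (fun R => Model.growP R [[17, 21, 23, 23, 24, 25]] [0, 0] 2 3) c1) ((m m0 h0).chain_nil _))))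
theorem sE : ∀ e ∈ pcE 3 [17, 18, 19, 20, 21, 22, 23, 24, 25] sW, ev (m m0 h0).g e.1 = ev (m m0 h0).g e.2 := (all_take_done (all_take_step (all_take_zero _ (pcE 3 [17, 18, 19, 20, 21, 22, 23, 24, 25] sW)) ((m m0 h0).pairs_of (base m0 h0 hb hc) (Model.via _ (mR m0 h0) (fun R => pairsB R [256, 2, 306, 225, 1, 0] (((pcE 3 [17, 18, 19, 20, 21, 22, 23, 24, 25] sW).drop 0).take 45)) c6))) (by decide +kernel))
omit hb hc in
theorem slow : 3 ^ [17, 18, 19, 20, 21, 22, 23, 24, 25].length ≤ Nat.card (gl (m m0 h0).g [17, 18, 19, 20, 21, 22, 23, 24, 25]) :=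
  (by decide +kernel : _ ≤ Model.cprod sch).trans ((m m0 h0).chain_card (sch_ok m0 h0) (gen_le fun w hw => mem_gl _ (List.all_eq_true.1 (by decide +kernel : (Model.cgens sch).all (·.all [17, 18, 19, 20, 21, 22, 23, 24, 25].contains) = true) w hw)))
theorem sc0 : Cl (m m0 h0).g 3 [17, 18, 19, 20, 21, 22, 23, 24, 25] [9, 81, 243, 729, 4, 10, 972] sS1 := (Cl.step (L := sL0) (cl_zero _ 3 [17, 18, 19, 20, 21, 22, 23, 24, 25] [9, 81, 243, 729, 4, 10, 972]) (all_take_done (all_take_step (all_take_zero _ (chE 3 [17, 18, 19, 20, 21, 22, 23, 24, 25] sL0)) ((m m0 h0).pairs_of (base m0 h0 hb hc) (Model.via _ (mR m0 h0) (fun R => pairsB R [256, 2, 306, 225, 1, 0] (((chE 3 [17, 18, 19, 20, 21, 22, 23, 24, 25] sL0).drop 0).take 400)) c7))) (by decide +kernel)) c8)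
theorem sc1 : Cl (m m0 h0).g 3 [17, 18, 19, 20, 21, 22, 23, 24, 25] [9, 81, 243, 729, 4, 10, 972] sS2 := (Cl.step (L := sL1) (sc0 m0 h0 hb hc) (all_take_done (all_take_step (all_take_zero _ (chE 3 [17, 18, 19, 20, 21, 22, 23, 24, 25] sL1)) ((m m0 h0).pairs_of (base m0 h0 hb hc) (Model.via _ (mR m0 h0) (fun R => pairsB R [256, 2, 306, 225, 1, 0] (((chE 3 [17, 18, 19, 20, 21, 22, 23, 24, 25] sL1).drop 0).take 400)) c9))) (by decide +kernel)) c10)
theorem sc2 : Cl (m m0 h0).g 3 [17, 18, 19, 20, 21, 22, 23, 24, 25] [9, 81, 243, 729, 4, 10, 972] sS3 := (Cl.step (L := sL2) (sc1 m0 h0 hb hc) (all_take_done (all_take_step (all_take_zero _ (chE 3 [17, 18, 19, 20, 21, 22, 23, 24, 25] sL2)) ((m m0 h0).pairs_of (base m0 h0 hb hc) (Model.via _ (mR m0 h0) (fun R => pairsB R [256, 2, 306, 225, 1, 0] (((chE 3 [17, 18, 19, 20, 21, 22, 23, 24, 25] sL2).drop 0).take 400)) c11))) (by decide +kernel)) c12)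
theorem sc3 : Cl (m m0 h0).g 3 [17, 18, 19, 20, 21, 22, 23, 24, 25] [9, 81, 243, 729, 4, 10, 972] sS4 := (Cl.step (L := sL3) (sc2 m0 h0 hb hc) (all_take_done (all_take_step (all_take_zero _ (chE 3 [17, 18, 19, 20, 21, 22, 23, 24, 25] sL3)) ((m m0 h0).pairs_of (base m0 h0 hb hc) (Model.via _ (mR m0 h0) (fun R => pairsB R [256, 2, 306, 225, 1, 0] (((chE 3 [17, 18, 19, 20, 21, 22, 23, 24, 25] sL3).drop 0).take 400)) c13))) (by decide +kernel)) c14)
theorem sc4 : Cl (m m0 h0).g 3 [17, 18, 19, 20, 21, 22, 23, 24, 25] [9, 81, 243, 729, 4, 10, 972] sS5 := (Cl.step (L := sL4) (sc3 m0 h0 hb hc) (all_take_done (all_take_step (all_take_zero _ (chE 3 [17, 18, 19, 20, 21, 22, 23, 24, 25] sL4)) ((m m0 h0).pairs_of (base m0 h0 hb hc) (Model.via _ (mR m0 h0) (fun R => pairsB R [256, 2, 306, 225, 1, 0] (((chE 3 [17, 18, 19, 20, 21, 22, 23, 24, 25] sL4).drop 0).take 400)) c15))) (by decide +kernel)) c16)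
theorem sc5 : Cl (m m0 h0).g 3 [17, 18, 19, 20, 21, 22, 23, 24, 25] [9, 81, 243, 729, 4, 10, 972] sS6 := (Cl.step (L := sL5) (sc4 m0 h0 hb hc) (all_take_done (all_take_step (all_take_zero _ (chE 3 [17, 18, 19, 20, 21, 22, 23, 24, 25] sL5)) ((m m0 h0).pairs_of (base m0 h0 hb hc) (Model.via _ (mR m0 h0) (fun R => pairsB R [256, 2, 306, 225, 1, 0] (((chE 3 [17, 18, 19, 20, 21, 22, 23, 24, 25] sL5).drop 0).take 400)) c17))) (by decide +kernel)) c18)
theorem sc6 : Cl (m m0 h0).g 3 [17, 18, 19, 20, 21, 22, 23, 24, 25] [9, 81, 243, 729, 4, 10, 972] sS7 := (Cl.step (L := sL6) (sc5 m0 h0 hb hc) (all_take_done (all_take_step (all_take_zero _ (chE 3 [17, 18, 19, 20, 21, 22, 23, 24, 25] sL6)) ((m m0 h0).pairs_of (base m0 h0 hb hc) (Model.via _ (mR m0 h0) (fun R => pairsB R [256, 2, 306, 225, 1, 0] (((chE 3 [17, 18, 19, 20, 21, 22, 23, 24, 25] sL6).drop 0).take 400)) c19))) (by decide +kernel)) c20)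
theorem sc7 : Cl (m m0 h0).g 3 [17, 18, 19, 20, 21, 22, 23, 24, 25] [9, 81, 243, 729, 4, 10, 972] sS8 := (Cl.step (L := sL7) (sc6 m0 h0 hb hc) (all_take_done (all_take_step (all_take_zero _ (chE 3 [17, 18, 19, 20, 21, 22, 23, 24, 25] sL7)) ((m m0 h0).pairs_of (base m0 h0 hb hc) (Model.via _ (mR m0 h0) (fun R => pairsB R [256, 2, 306, 225, 1, 0] (((chE 3 [17, 18, 19, 20, 21, 22, 23, 24, 25] sL7).drop 0).take 400)) c21))) (by decide +kernel)) c22)
theorem sc8 : Cl (m m0 h0).g 3 [17, 18, 19, 20, 21, 22, 23, 24, 25] [9, 81, 243, 729, 4, 10, 972] sS9 := (Cl.step (L := sL8) (sc7 m0 h0 hb hc) (all_take_done (all_take_step (all_take_zero _ (chE 3 [17, 18, 19, 20, 21, 22, 23, 24, 25] sL8)) ((m m0 h0).pairs_of (base m0 h0 hb hc) (Model.via _ (mR m0 h0) (fun R => pairsB R [256, 2, 306, 225, 1, 0] (((chE 3 [17, 18, 19, 20, 21, 22, 23, 24, 25] sL8).drop 0).take 400)) c23))) (by decide +kernel)) c24)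
theorem sc9 : Cl (m m0 h0).g 3 [17, 18, 19, 20, 21, 22, 23, 24, 25] [9, 81, 243, 729, 4, 10, 972] sS10 := (Cl.step (L := sL9) (sc8 m0 h0 hb hc) (all_take_done (all_take_step (all_take_zero _ (chE 3 [17, 18, 19, 20, 21, 22, 23, 24, 25] sL9)) ((m m0 h0).pairs_of (base m0 h0 hb hc) (Model.via _ (mR m0 h0) (fun R => pairsB R [256, 2, 306, 225, 1, 0] (((chE 3 [17, 18, 19, 20, 21, 22, 23, 24, 25] sL9).drop 0).take 400)) c25))) (by decide +kernel)) c26)
theorem sc10 : Cl (m m0 h0).g 3 [17, 18, 19, 20, 21, 22, 23, 24, 25] [9, 81, 243, 729, 4, 10, 972] sS11 := (Cl.step (L := sL10) (sc9 m0 h0 hb hc) (all_take_done (all_take_step (all_take_zero _ (chE 3 [17, 18, 19, 20, 21, 22, 23, 24, 25] sL10)) ((m m0 h0).pairs_of (base m0 h0 hb hc) (Model.via _ (mR m0 h0) (fun R => pairsB R [256, 2, 306, 225, 1, 0] (((chE 3 [17, 18, 19, 20, 21, 22, 23, 24, 25] sL10).drop 0).take 400)) c27))) (by decide +kernel)) c28)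
theorem sc11 : Cl (m m0 h0).g 3 [17, 18, 19, 20, 21, 22, 23, 24, 25] [9, 81, 243, 729, 4, 10, 972] sS12 := (Cl.step (L := sL11) (sc10 m0 h0 hb hc) (all_take_done (all_take_step (all_take_zero _ (chE 3 [17, 18, 19, 20, 21, 22, 23, 24, 25] sL11)) ((m m0 h0).pairs_of (base m0 h0 hb hc) (Model.via _ (mR m0 h0) (fun R => pairsB R [256, 2, 306, 225, 1, 0] (((chE 3 [17, 18, 19, 20, 21, 22, 23, 24, 25] sL11).drop 0).take 400)) c29))) (by decide +kernel)) c30)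
theorem sc12 : Cl (m m0 h0).g 3 [17, 18, 19, 20, 21, 22, 23, 24, 25] [9, 81, 243, 729, 4, 10, 972] sS13 := (Cl.step (L := sL12) (sc11 m0 h0 hb hc) (all_take_done (all_take_step (all_take_zero _ (chE 3 [17, 18, 19, 20, 21, 22, 23, 24, 25] sL12)) ((m m0 h0).pairs_of (base m0 h0 hb hc) (Model.via _ (mR m0 h0) (fun R => pairsB R [256, 2, 306, 225, 1, 0] (((chE 3 [17, 18, 19, 20, 21, 22, 23, 24, 25] sL12).drop 0).take 295)) c31))) (by decide +kernel)) c32)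
theorem scls : ∀ x : G, x ^ 3 ^ 1 = 1 → x ≠ 1 → ∃ r ∈ [9, 81, 243, 729, 4, 10, 972], IsConj (ev (m m0 h0).g (wd 3 [17, 18, 19, 20, 21, 22, 23, 24, 25] r)) x :=
  cls2 (by decide) (sE m0 h0 hb hc) (slow m0 h0) hc (sc12 m0 h0 hb hc) (lt_step_all (lt_step_all (lt_step_all (lt_step_all (lt_step_all (lt_step_all (lt_step_all (lt_step_all (lt_step_all (lt_step_all (lt_step_all (lt_step_all (lt_step_all (lt_step_all (lt_step_all (lt_step_all (lt_step_all (lt_step_all (lt_step_all (lt_step_all (lt_step_all (lt_step_all (lt_step_all (lt_step_all (lt_step_all (lt_step_all (lt_step_all (lt_zero_all _) ((m m0 h0).needI_of (Model.via _ (mR m0 h0) (fun R => needI R [19, 0] 3 (3 ^ 1) [17, 18, 19, 20, 21, 22, 23, 24, 25] sS13 0 729) c33))) ((m m0 h0).needI_of (Model.via _ (mR m0 h0) (fun R => needI R [19, 0] 3 (3 ^ 1) [17, 18, 19, 20, 21, 22, 23, 24, 25] sS13 729 729) c34))) ((m m0 h0).needI_of (Model.via _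 (mR m0 h0) (fun R => needI R [19, 0] 3 (3 ^ 1) [17, 18, 19, 20, 21, 22, 23, 24, 25] sS13 1458 729) c35))) ((m m0 h0).needI_of (Model.via _ (mR m0 h0) (fun R => needI R [19, 0] 3 (3 ^ 1) [17, 18, 19, 20, 21, 22, 23, 24, 25] sS13 2187 729) c36))) ((m m0 h0).needI_of (Model.via _ (mR m0 h0) (fun R => needI R [19, 0] 3 (3 ^ 1) [17, 18, 19, 20, 21, 22, 23, 24, 25] sS13 2916 729) c37))) ((m m0 h0).needI_of (Model.via _ (mR m0 h0) (fun R => needI R [19, 0] 3 (3 ^ 1) [17, 18, 19, 20, 21, 22, 23, 24, 25] sS13 3645 729) c38))) ((m m0 h0).needI_of (Model.via _ (mR m0 h0) (fun R => needI R [19, 0] 3 (3 ^ 1) [17, 18, 19, 20, 21, 22, 23, 24, 25] sS13 4374 729) c39))) ((m m0 h0).needI_of (Model.via _ (mR m0 h0) (fun R => needI R [19, 0] 3 (3 ^ 1) [17, 18, 19, 20, 21, 22, 23, 24, 25] sS13 5103 729) c40))) ((m m0 h0).needI_of (Model.via _ (mR m0 h0) (fun R => needI R [19, 0] 3 (3 ^ 1) [17, 18, 19, 20, 21, 22,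 23, 24, 25] sS13 5832 729) c41))) ((m m0 h0).needI_of (Model.via _ (mR m0 h0) (fun R => needI R [19, 0] 3 (3 ^ 1) [17, 18, 19, 20, 21, 22, 23, 24, 25] sS13 6561 729) c42))) ((m m0 h0).needI_of (Model.via _ (mR m0 h0) (fun R => needI R [19, 0] 3 (3 ^ 1) [17, 18, 19, 20, 21, 22, 23, 24, 25] sS13 7290 729) c43))) ((m m0 h0).needI_of (Model.via _ (mR m0 h0) (fun R => needI R [19, 0] 3 (3 ^ 1) [17, 18, 19, 20, 21, 22, 23, 24, 25] sS13 8019 729) c44))) ((m m0 h0).needI_of (Model.via _ (mR m0 h0) (fun R => needI R [19, 0] 3 (3 ^ 1) [17, 18, 19, 20, 21, 22, 23, 24, 25] sS13 8748 729) c45))) ((m m0 h0).needI_of (Model.via _ (mR m0 h0) (fun R => needI R [19, 0] 3 (3 ^ 1) [17, 18, 19, 20, 21, 22, 23, 24, 25] sS13 9477 729) c46))) ((m m0 h0).needI_of (Model.via _ (mR m0 h0) (fun R => needI R [19, 0] 3 (3 ^ 1) [17, 18, 19, 20, 21, 22, 23, 24, 25] sS13 10206 729) c47))) ((m m0 h0).needI_of (Model.via _ (mR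 m0 h0) (fun R => needI R [19, 0] 3 (3 ^ 1) [17, 18, 19, 20, 21, 22, 23, 24, 25] sS13 10935 729) c48))) ((m m0 h0).needI_of (Model.via _ (mR m0 h0) (fun R => needI R [19, 0] 3 (3 ^ 1) [17, 18, 19, 20, 21, 22, 23, 24, 25] sS13 11664 729) c49))) ((m m0 h0).needI_of (Model.via _ (mR m0 h0) (fun R => needI R [19, 0] 3 (3 ^ 1) [17, 18, 19, 20, 21, 22, 23, 24, 25] sS13 12393 729) c50))) ((m m0 h0).needI_of (Model.via _ (mR m0 h0) (fun R => needI R [19, 0] 3 (3 ^ 1) [17, 18, 19, 20, 21, 22, 23, 24, 25] sS13 13122 729) c51))) ((m m0 h0).needI_of (Model.via _ (mR m0 h0) (fun R => needI R [19, 0] 3 (3 ^ 1) [17, 18, 19, 20, 21, 22, 23, 24, 25] sS13 13851 729) c52))) ((m m0 h0).needI_of (Model.via _ (mR m0 h0) (fun R => needI R [19, 0] 3 (3 ^ 1) [17, 18, 19, 20, 21, 22, 23, 24, 25] sS13 14580 729) c53))) ((m m0 h0).needI_of (Model.via _ (mR m0 h0) (fun R => needI R [19, 0] 3 (3 ^ 1) [17, 18, 19, 20, 21,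 22, 23, 24, 25] sS13 15309 729) c54))) ((m m0 h0).needI_of (Model.via _ (mR m0 h0) (fun R => needI R [19, 0] 3 (3 ^ 1) [17, 18, 19, 20, 21, 22, 23, 24, 25] sS13 16038 729) c55))) ((m m0 h0).needI_of (Model.via _ (mR m0 h0) (fun R => needI R [19, 0] 3 (3 ^ 1) [17, 18, 19, 20, 21, 22, 23, 24, 25] sS13 16767 729) c56))) ((m m0 h0).needI_of (Model.via _ (mR m0 h0) (fun R => needI R [19, 0] 3 (3 ^ 1) [17, 18, 19, 20, 21, 22, 23, 24, 25] sS13 17496 729) c57))) ((m m0 h0).needI_of (Model.via _ (mR m0 h0) (fun R => needI R [19, 0] 3 (3 ^ 1) [17, 18, 19, 20, 21, 22, 23, 24, 25] sS13 18225 729) c58))) ((m m0 h0).needI_of (Model.via _ (mR m0 h0) (fun R => needI R [19, 0] 3 (3 ^ 1) [17, 18, 19, 20, 21, 22, 23, 24, 25] sS13 18954 729) c59))) (by decide +kernel)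
theorem cls : ∀ x : G, x ^ 3 ^ 1 = 1 → x ≠ 1 → ∃ i : Fin 7, IsConj (ev m0.g (W.getD i [])) x := fun x a b => by
  obtain ⟨r, hr, c⟩ := scls m0 h0 hb hc x a b
  obtain ⟨i, rfl⟩ : ∃ i : Fin 7, r = [9, 81, 243, 729, 4, 10, 972].getD i 0 := by clear c; revert r; decide
  refine ⟨i, ?_⟩
  rwa [(all_take_done (all_take_step (all_take_zero _ ((List.finRange 7).map fun i : Fin 7 => (wd 3 [17, 18, 19, 20, 21, 22, 23, 24, 25] ([9, 81, 243, 729, 4, 10, 972].getD i 0), W.getD i []))) ((m m0 h0).pairs_of (base m0 h0 hb hc) (Model.via _ (mR m0 h0) (fun R => pairsB R [256, 2, 306, 225, 1, 0] ((((List.finRange 7).map fun i : Fin 7 => (wd 3 [17, 18, 19, 20, 21, 22, 23, 24, 25] ([9, 81, 243, 729, 4, 10, 972].getD i 0), W.getD i [])).drop 0).take 7)) c60))) (by decide +kernel)) _ (List.mem_map_of_mem (List.mem_finRange i)),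
    ← ev_congr (k := 17) (fun _ h => geq m0 h0 h) (by clear c hr; revert i; decide)] at c
end H0.EO73C
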